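import Mathlib

/-!
# Singular lines of a nondegenerate quadratic space
-/

set_option autoImplicit false

namespace Cfsg.Agent.RootSub.Siegel

open QuadraticMap Module

variable {F V : Type*} [Field F] [AddCommGroup V] [Module F V] (Q : QuadraticForm F V)

/-- A basis of a singular line. -/
def Line (p r : V) : Prop := LinearIndependent F ![p, r] ∧ Q p = 0 ∧ Q r = 0 ∧ polar Q p r = 0

/-- The two lines are opposite, in terms of the given bases. -/
def Opp (p r p' r' : V) : Prop :=
  polar Q p p' * polar Q r r' - polar Q p r' * polar Q r p' ≠ 0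

variable {Q}

theorem form_add (x y : V) : Q (x + y) = Q x + Q y + polar Q x y := by
  rw [polar]; abel


theorem Line.li {p r : V} (h : Line Q p r) {s t : F} (e : s • p + t • r = 0) : s = 0 ∧ t = 0 :=
  LinearIndependent.pair_iff.1 h.1 s t e

theorem Line.fst_ne {p r : V} (h : Line Q p r) : p ≠ 0 := fun e => by
  have := (h.li (s := 1) (t := 0) (by simp [e])).1
  exact one_ne_zero this

theorem Line.snd_ne {p r : V} (h : Line Q p r) : r ≠ 0 := fun e => by
  have := (h.li (s := 0) (t := 1) (by simp [e])).2
  exact one_ne_zero this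

theorem Line.swap {p r : V} (h : Line Q p r) : Line Q r p :=
  ⟨LinearIndependent.pair_iff.2 fun s t e => (h.li (by rw [add_comm]; exact e)).symm,
    h.2.2.1, h.2.1, by rw [polar_comm]; exact h.2.2.2⟩

theorem Line.polar_self_fst {p r : V} (h : Line Q p r) : polar Q p p = 0 := by
  rw [polar_self, h.2.1, smul_zero]

theorem Line.polar_self_snd {p r : V} (h : Line Q p r) : polar Q r r = 0 := by
  rw [polar_self, h.2.2.1, smul_zero]

/-- A combination of two basis vectors with nonzero determinant is again a basis. -/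
theorem Line.change {p r : V} (h : Line Q p r) {a b c d : F} (hd : a * d - b * c ≠ 0) :
    Line Q (a • p + b • r) (c • p + d • r) := by
  refine ⟨LinearIndependent.pair_iff.2 fun s t e => ?_, ?_, ?_, ?_⟩
  · have := h.li (s := s * a + t * c) (t := s * b + t * d) (by linear_combination (norm := module) e)
    have e1 : s * (a * d - b * c) = 0 := by linear_combination d * this.1 - c * this.2
    have e2 : t * (a * d - b * c) = 0 := by linear_combination a * this.2 - b * this.1
    exact ⟨(mul_eq_zero.1 e1).resolve_right hd, (mul_eq_zero.1 e2).resolve_right hd⟩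
  · rw [form_add, QuadraticMap.map_smul, QuadraticMap.map_smul, h.2.1, h.2.2.1, polar_smul_left, polar_smul_right, h.2.2.2]
    simp
  · rw [form_add, QuadraticMap.map_smul, QuadraticMap.map_smul, h.2.1, h.2.2.1, polar_smul_left, polar_smul_right, h.2.2.2]
    simp
  · simp only [polar_add_left, polar_add_right, polar_smul_left, polar_smul_right, h.polar_self_fst,
      h.polar_self_snd, h.2.2.2, polar_comm Q r p, smul_eq_mul]
    ring

variable [FiniteDimensional F V] (hQ : (polarBilin Q).Nondegenerate)
include hQ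

theorem exists_polar_eq (φ : Dual F V) : ∃ z, ∀ x, polar Q z x = φ x := by
  let P : LinearMap.BilinForm F V := polarBilin Q
  exact ⟨(P.toDual hQ).symm φ, fun x => P.apply_toDual_symm_apply φ x⟩

theorem eq_zero_of_polar {z : V} (h : ∀ x, polar Q z x = 0) : z = 0 := hQ.1 z h

theorem exists_polar_ne {p : V} (hp : p ≠ 0) : ∃ z, polar Q z p ≠ 0 := by
  by_contra! h
  exact hp (eq_zero_of_polar hQ fun x => by rw [polar_comm]; exact h x)

theorem exists_polar_ne_two {p r : V} (hp : p ≠ 0) (hr : r ≠ 0) :
    ∃ z, polar Q z p ≠ 0 ∧ polar Q z r ≠ 0 := by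
  obtain ⟨a, ha⟩ := exists_polar_ne hQ hp
  obtain ⟨b, hb⟩ := exists_polar_ne hQ hr
  by_cases h1 : polar Q a r = 0
  · by_cases h2 : polar Q b p = 0
    · exact ⟨a + b, by rwa [polar_add_left, h2, add_zero], by rwa [polar_add_left, h1, zero_add]⟩
    · exact ⟨b, h2, hb⟩
  · exact ⟨a, ha, h1⟩

/-- Vectors with prescribed products against a line. -/
theorem exists_dual {p r : V} (h : Line Q p r) : ∃ z, polar Q z p = 1 ∧ polar Q z r = 0 := by
  have hn : p ∉ Submodule.span F {r} := by
    intro hm
    obtain ⟨a, ha⟩ := Submodule.mem_span_singleton.1 hm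
    have := (h.li (s := -1) (t := a) (by rw [ha]; simp)).1
    exact one_ne_zero (neg_eq_zero.1 this)
  obtain ⟨φ, hφp, hφr⟩ := Submodule.exists_dual_map_eq_bot_of_notMem hn inferInstance
  have hr : φ r = 0 := by
    have : φ r ∈ (Submodule.span F {r}).map φ := Submodule.mem_map_of_mem (Submodule.mem_span_singleton_self r)
    rwa [hφr, Submodule.mem_bot] at this
  obtain ⟨z, hz⟩ := exists_polar_eq hQ ((φ p)⁻¹ • φ)
  exact ⟨z, by rw [hz]; simp [hφp], by rw [hz]; simp [hr]⟩

theorem exists_hyperbolic {p : V} (hp : p ≠ 0) (hp0 : Q p = 0) : ∃ p', Q p' = 0 ∧ polar Q p p' = 1 := by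
  obtain ⟨a, ha⟩ := exists_polar_ne hQ hp
  obtain ⟨z, h1⟩ : ∃ z, polar Q z p = 1 :=
    ⟨(polar Q a p)⁻¹ • a, by rw [polar_smul_left, smul_eq_mul, inv_mul_cancel₀ ha]⟩
  refine ⟨z - Q z • p, ?_, ?_⟩
  · rw [sub_eq_add_neg, ← neg_smul, form_add, QuadraticMap.map_smul, hp0, polar_smul_right, h1]
    simp
  · rw [polar_sub_right, polar_smul_right, polar_comm Q p z, h1, polar_self, hp0]
    simp

/-- A vector orthogonal to two hyperbolic pairs on which the form does not vanish. -/
theorem exists_perp_aniso (hn : 5 ≤ finrank F V) {p p' r s : V} {b : F}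
    (hpp : polar Q p p = 0) (hpp' : polar Q p' p' = 0) (hrr : polar Q r r = 0) (hss : polar Q s s = 0)
    (h1 : polar Q p p' = 1) (h2 : polar Q p r = 0) (h3 : polar Q p s = 0) (h4 : polar Q p' r = 0)
    (h5 : polar Q p' s = 0) (h6 : polar Q r s = b) (hb : b ≠ 0) :
    ∃ y, polar Q y p = 0 ∧ polar Q y p' = 0 ∧ polar Q y r = 0 ∧ polar Q y s = 0 ∧ Q y ≠ 0 := by
  by_contra! hall
  let pr : V → V := fun x => x - polar Q x p' • p - polar Q x p • p' - (b⁻¹ * polar Q x s) • r -
    (b⁻¹ * polar Q x r) • s
  have k : ∀ x, polar Q (pr x) p = 0 ∧ polar Q (pr x) p' = 0 ∧ polar Q (pr x) r = 0 ∧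
      polar Q (pr x) s = 0 := by
    intro x
    simp only [pr, polar_sub_left, polar_smul_left, hpp, hpp', hrr, hss, h1, polar_comm Q p' p,
      polar_comm Q r p, polar_comm Q s p, polar_comm Q r p', polar_comm Q s p', polar_comm Q s r,
      h2, h3, h4, h5, h6, smul_eq_mul]
    refine ⟨by ring, by ring, ?_, ?_⟩ <;> field_simp <;> ring
  have hz : ∀ x y, polar Q (pr x) (pr y) = 0 := by
    intro x y
    obtain ⟨a1, a2, a3, a4⟩ := k x
    obtain ⟨c1, c2, c3, c4⟩ := k y
    rw [polar, hall _ (by rw [polar_add_left, a1, c1, add_zero]) (by rw [polar_add_left, a2, c2, add_zero])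
      (by rw [polar_add_left, a3, c3, add_zero]) (by rw [polar_add_left, a4, c4, add_zero]),
      hall _ a1 a2 a3 a4, hall _ c1 c2 c3 c4]
    simp
  have hzero : ∀ x, pr x = 0 := by
    intro x
    refine eq_zero_of_polar hQ fun y => ?_
    obtain ⟨a1, a2, a3, a4⟩ := k x
    have := hz x y
    simpa only [pr, polar_sub_right, polar_smul_right, a1, a2, a3, a4, smul_zero, sub_zero] using this
  have htop : Submodule.span F ({p, p', r, s} : Set V) = ⊤ := by
    refine eq_top_iff.2 fun x _ => ?_
    have e : x = polar Q x p' • p + polar Q x p • p' + (b⁻¹ * polar Q x s) • r +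
        (b⁻¹ * polar Q x r) • s := by
      linear_combination (norm := module) hzero x
    rw [e]
    refine add_mem (add_mem (add_mem ?_ ?_) ?_) ?_ <;>
      exact Submodule.smul_mem _ _ (Submodule.subset_span (by simp))
  classical
  have h := finrank_span_finset_le_card (R := F) (M := V) ({p, p', r, s} : Finset V)
  simp only [Finset.coe_insert, Finset.coe_singleton] at h
  rw [Set.finrank] at h
  rw [htop, finrank_top] at h
  have := Finset.card_le_four (a := p) (b := p') (c := r) (d := s)
  omega

/-- Two lines through a common point have a common opposite. -/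
theorem exists_opp_common (hn : 5 ≤ finrank F V) {p r s : V} (hr : Line Q p r) (hs : Line Q p s) :
    ∃ u v, Line Q u v ∧ Opp Q p r u v ∧ Opp Q p s u v := by
  obtain ⟨p', hp'0, hp'⟩ := exists_hyperbolic hQ hr.fst_ne hr.2.1
  have hpp := hr.polar_self_fst
  have hpp' : polar Q p' p' = 0 := by rw [polar_self, hp'0, smul_zero]
  -- projections
  have hproj : ∀ x : V, Line Q p x → ∃ x0 : V, x0 ≠ 0 ∧ Q x0 = 0 ∧ polar Q x0 x0 = 0 ∧
      polar Q p x0 = 0 ∧ polar Q p' x0 = 0 ∧ x = polar Q x p' • p + x0 := by
    intro x hx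
    have q0 : Q (x - polar Q x p' • p) = 0 := by
      rw [sub_eq_add_neg, ← neg_smul, form_add, QuadraticMap.map_smul, hx.2.1, hx.2.2.1, polar_smul_right,
        polar_comm Q x p, hx.2.2.2]
      simp
    refine ⟨x - polar Q x p' • p, ?_, q0, by rw [polar_self, q0, smul_zero], ?_, ?_, by abel⟩
    · intro e
      have := (hx.li (s := -polar Q x p') (t := 1) (by rw [neg_smul, one_smul, ← e]; abel)).2
      exact one_ne_zero this
    · rw [polar_sub_right, polar_smul_right, hpp, hx.2.2.2, smul_zero, sub_zero]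
    · rw [polar_sub_right, polar_smul_right, polar_comm Q p' p, hp', polar_comm Q p' x]
      simp
  obtain ⟨r0, r0ne, qr0, rr, pr, p'r, er⟩ := hproj r hr
  obtain ⟨s0, s0ne, qs0, ss, ps, p's, es⟩ := hproj s hs
  obtain ⟨v, qv, pv, p'v, vr, vs⟩ : ∃ v, Q v = 0 ∧ polar Q p v = 0 ∧ polar Q p' v = 0 ∧
      polar Q r0 v ≠ 0 ∧ polar Q s0 v ≠ 0 := by
    by_cases hb : polar Q r0 s0 = 0
    · obtain ⟨z, zr, zs⟩ := exists_polar_ne_two hQ r0ne s0ne
      set w := z - polar Q z p' • p - polar Q z p • p' with hw
      have wp : polar Q w p = 0 := by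
        simp only [hw, polar_sub_left, polar_smul_left, hpp, polar_comm Q p' p, hp', smul_eq_mul]; ring
      have wp' : polar Q w p' = 0 := by
        simp only [hw, polar_sub_left, polar_smul_left, hpp', hp', smul_eq_mul]; ring
      have wr : polar Q w r0 = polar Q z r0 := by
        simp [hw, polar_sub_left, polar_smul_left, pr, p'r]
      have ws : polar Q w s0 = polar Q z s0 := by
        simp [hw, polar_sub_left, polar_smul_left, ps, p's]
      set k := Q w / polar Q z r0 with hk
      refine ⟨w - k • r0, ?_, ?_, ?_, ?_, ?_⟩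
      · rw [sub_eq_add_neg, ← neg_smul, form_add, QuadraticMap.map_smul, qr0, polar_smul_right, wr]
        simp [hk, div_mul_cancel₀ _ zr]
      · rw [polar_sub_right, polar_smul_right, polar_comm Q p w, wp, pr, smul_zero, sub_zero]
      · rw [polar_sub_right, polar_smul_right, polar_comm Q p' w, wp', p'r, smul_zero, sub_zero]
      · rw [polar_sub_right, polar_smul_right, polar_comm Q r0 w, wr, rr, smul_zero, sub_zero]
        exact zr
      · rw [polar_sub_right, polar_smul_right, polar_comm Q s0 w, ws, polar_comm Q s0 r0, hb, smul_zero,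
          sub_zero]
        exact zs
    · obtain ⟨y, y1, y2, y3, y4, y5⟩ := exists_perp_aniso hQ hn hpp hpp' rr ss hp' pr ps p'r p's rfl hb
      set b := polar Q r0 s0
      refine ⟨r0 + (-Q y / b) • s0 + y, ?_, ?_, ?_, ?_, ?_⟩
      · rw [form_add (r0 + (-Q y / b) • s0) y, form_add r0, QuadraticMap.map_smul, qr0, qs0,
          polar_smul_right, polar_add_left, polar_smul_left, polar_comm Q r0 y, polar_comm Q s0 y, y3, y4]
        simp [div_mul_cancel₀ _ hb, b]
      · simp [polar_add_right, polar_smul_right, pr, ps, polar_comm Q p y, y1]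
      · simp [polar_add_right, polar_smul_right, p'r, p's, polar_comm Q p' y, y2]
      · simp [polar_add_right, polar_smul_right, rr, polar_comm Q r0 y, y3, hb, b, y5]
      · simp [polar_add_right, polar_smul_right, ss, polar_comm Q s0 y, y4, polar_comm Q s0 r0, hb]; exact hb
  have hline : Line Q p' v := by
    refine ⟨LinearIndependent.pair_iff.2 fun a c e => ?_, hp'0, qv, p'v⟩
    have e1 := congrArg (polar Q p) e
    rw [polar_add_right, polar_smul_right, polar_smul_right, hp', pv, polar_zero_right] at e1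
    have ha : a = 0 := by simpa using e1
    subst ha
    rw [zero_smul, zero_add, smul_eq_zero] at e
    exact ⟨rfl, e.resolve_right fun h => vr (by rw [h, polar_zero_right])⟩
  refine ⟨p', v, hline, ?_, ?_⟩
  · rw [Opp, hp', pv, er, polar_add_left, polar_smul_left, pv]
    simpa using vr
  · rw [Opp, hp', pv, es, polar_add_left, polar_smul_left, pv]
    simpa using vs

end Cfsg.Agent.RootSub.Siegel
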