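import Cfsg.Agent.RootSub.Siegel.Geometry
import Cfsg.Agent.RootSub.TransFam
import Cfsg.Agent.RootSub.Transfer

/-!
# The Siegel transvection groups of singular lines
-/

set_option autoImplicit false
set_option linter.unusedSectionVars false

namespace Cfsg.Agent.RootSub.Siegel

open QuadraticMap Module Cfsg
open scoped MatrixGroups commutatorElement

universe uF uV uG

variable {F : Type uF} {V : Type uV} [Field F] [AddCommGroup V] [Module F V] [FiniteDimensional F V]
  {G : Type uG} [Group G]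

/-- `G` acts as the isometry group of a nondegenerate form. -/
structure Setup (ι : G →* (V ≃ₗ[F] V)) (Q : QuadraticForm F V) : Prop where
  inj : Function.Injective ι
  iso : ∀ g x, Q (ι g x) = Q x
  full : ∀ f : V ≃ₗ[F] V, (∀ x, Q (f x) = Q x) → ∃ g, ι g = f
  nondeg : (polarBilin Q).Nondegenerate
  dim : 5 ≤ finrank F V

variable (ι : G →* (V ≃ₗ[F] V)) (Q : QuadraticForm F V)

/-- The group fixing every vector orthogonal to the two given ones. -/
def grp (p r : V) : Subgroup G :=
  Subgroup.closure {g | ∀ v, polar Q v p = 0 → polar Q v r = 0 → ι g v = v}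

/-- `g` acts as a Siegel transvection. -/
def Sv (p r : V) (c : F) (g : G) : Prop :=
  ∀ x, ι g x = x + c • (polar Q x p • r - polar Q x r • p)

/-- The groups of all singular lines. -/
def groups : Set (Subgroup G) := {A | ∃ p r, Line Q p r ∧ A = grp ι Q p r}

variable {ι Q}

theorem grp_swap (p r : V) : grp ι Q p r = grp ι Q r p := by
  refine congrArg Subgroup.closure (Set.ext fun g => ?_)
  exact ⟨fun h v a b => h v b a, fun h v a b => h v b a⟩

theorem grp_change (p r : V) {a b c d : F} (hd : a * d - b * c ≠ 0) :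
    grp ι Q (a • p + b • r) (c • p + d • r) = grp ι Q p r := by
  refine congrArg Subgroup.closure (Set.ext fun g => ?_)
  constructor
  · intro h v e1 e2
    exact h v (by simp [polar_add_right, polar_smul_right, e1, e2])
      (by simp [polar_add_right, polar_smul_right, e1, e2])
  · intro h v e1 e2
    simp only [polar_add_right, polar_smul_right, smul_eq_mul] at e1 e2
    exact h v ((mul_eq_zero.1 (show polar Q v p * (a * d - b * c) = 0 by
        linear_combination d * e1 - b * e2)).resolve_right hd)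
      ((mul_eq_zero.1 (show polar Q v r * (a * d - b * c) = 0 by
        linear_combination a * e2 - c * e1)).resolve_right hd)

theorem sv_zero (p r : V) : Sv ι Q p r (0 : F) 1 := fun x => by simp

theorem Sv.mul {p r : V} (hl : Line Q p r) {c d : F} {g h : G} (hg : Sv ι Q p r c g)
    (hh : Sv ι Q p r d h) : Sv ι Q p r (c + d) (g * h) := fun x => by
  rw [map_mul, LinearEquiv.mul_apply, hh, hg]
  simp only [polar_add_left, polar_smul_left, polar_sub_left, hl.polar_self_fst, hl.polar_self_snd,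
    hl.2.2.2, polar_comm Q r p]
  module

theorem Sv.inv {p r : V} (hl : Line Q p r) {c : F} {g : G} (hg : Sv ι Q p r c g) :
    Sv ι Q p r (-c) g⁻¹ := fun x => by
  rw [map_inv]
  refine (LinearEquiv.symm_apply_eq (ι g)).mpr ?_
  rw [hg]
  simp only [polar_add_left, polar_smul_left, polar_sub_left, hl.polar_self_fst, hl.polar_self_snd,
    hl.2.2.2, polar_comm Q r p]
  module

variable (S : Setup ι Q)
include S

theorem Sv.unique {p r : V} {c : F} {g h : G} (hg : Sv ι Q p r c g) (hh : Sv ι Q p r c h) : g = h :=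
  S.inj (LinearEquiv.ext fun x => (hg x).trans (hh x).symm)

theorem polar_map (g : G) (x y : V) : polar Q (ι g x) (ι g y) = polar Q x y := by
  simp only [polar, ← map_add, S.iso]

theorem exists_sv {p r : V} (hl : Line Q p r) (c : F) : ∃ g, Sv ι Q p r c g := by
  let T : F → V → V := fun c x => x + c • (polar Q x p • r - polar Q x r • p)
  have hT : ∀ c d x, T c (T d x) = T (c + d) x := fun c d x => by
    simp only [T, polar_add_left, polar_smul_left, polar_sub_left, hl.polar_self_fst, hl.polar_self_snd,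
      hl.2.2.2, polar_comm Q r p]
    module
  let f : V ≃ₗ[F] V :=
    { toFun := T c
      map_add' := fun x y => by simp only [T, polar_add_left]; module
      map_smul' := fun a x => by simp only [T, polar_smul_left, RingHom.id_apply, smul_eq_mul]; module
      invFun := T (-c)
      left_inv := fun x => by rw [hT, neg_add_cancel]; simp [T]
      right_inv := fun x => by rw [hT, add_neg_cancel]; simp [T] }
  obtain ⟨g, hg⟩ := S.full f fun x => by
    show Q (x + c • (polar Q x p • r - polar Q x r • p)) = Q x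
    rw [form_add, QuadraticMap.map_smul, sub_eq_add_neg, ← neg_smul, form_add, QuadraticMap.map_smul,
      QuadraticMap.map_smul, hl.2.1, hl.2.2.1]
    simp only [polar_smul_left, polar_smul_right, polar_add_right, polar_comm Q r p, hl.2.2.2,
      smul_eq_mul]
    ring
  exact ⟨g, fun x => by rw [hg]; rfl⟩

theorem sv_of_fix {p r : V} (hl : Line Q p r) {g : G}
    (hg : ∀ v, polar Q v p = 0 → polar Q v r = 0 → ι g v = v) : ∃ c, Sv ι Q p r c g := by
  obtain ⟨ps, h1, h2⟩ := exists_dual S.nondeg hl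
  obtain ⟨rs, h4, h3⟩ := exists_dual S.nondeg hl.swap
  set σ := ι g
  have dec : ∀ x, σ x = x + polar Q x p • (σ ps - ps) + polar Q x r • (σ rs - rs) := by
    intro x
    have := hg (x - polar Q x p • ps - polar Q x r • rs)
      (by simp [polar_sub_left, polar_smul_left, h1, h3])
      (by simp [polar_sub_left, polar_smul_left, h2, h4])
    simp only [map_sub, map_smul] at this
    linear_combination (norm := module) this
  have key : ∀ z, σ z - z = polar Q (σ z - z) ps • p + polar Q (σ z - z) rs • r := by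
    intro z
    refine sub_eq_zero.1 (eq_zero_of_polar S.nondeg fun x => ?_)
    set w := x - polar Q x p • ps - polar Q x r • rs with hw
    have w1 : polar Q w p = 0 := by simp [hw, polar_sub_left, polar_smul_left, h1, h3]
    have w2 : polar Q w r = 0 := by simp [hw, polar_sub_left, polar_smul_left, h2, h4]
    have hzw : polar Q (σ z - z) w = 0 := by
      have := polar_map S g z w
      rw [hg w w1 w2] at this
      rw [polar_sub_left, this, sub_self]
    simp only [hw, polar_sub_right, polar_smul_right, smul_eq_mul] at hzw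
    rw [polar_sub_left _ (σ z - z), polar_add_left, polar_smul_left, polar_smul_left, polar_comm Q p x,
      polar_comm Q r x, smul_eq_mul, smul_eq_mul]
    linear_combination hzw
  set a := σ ps - ps with ha
  set b := σ rs - rs with hb
  obtain ⟨α, β, ea⟩ : ∃ α β : F, a = α • p + β • r := ⟨_, _, key ps⟩
  obtain ⟨γ, δ, eb⟩ : ∃ γ δ : F, b = γ • p + δ • r := ⟨_, _, key rs⟩
  have hα : α = 0 := by
    have := S.iso g ps
    rw [show ι g ps = ps + a by rw [ha]; abel, form_add, ea, form_add] at this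
    simp only [QuadraticMap.map_smul, hl.2.1, hl.2.2.1, polar_add_right, polar_smul_left, polar_smul_right,
      h1, h2, hl.2.2.2, smul_eq_mul] at this
    linear_combination this
  have hδ : δ = 0 := by
    have := S.iso g rs
    rw [show ι g rs = rs + b by rw [hb]; abel, form_add, eb, form_add] at this
    simp only [QuadraticMap.map_smul, hl.2.1, hl.2.2.1, polar_add_right, polar_smul_left, polar_smul_right,
      h3, h4, hl.2.2.2, smul_eq_mul] at this
    linear_combination this
  subst hα hδ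
  rw [zero_smul, zero_add] at ea
  rw [zero_smul, add_zero] at eb
  have hγ : β + γ = 0 := by
    have := polar_map S g ps rs
    rw [show ι g ps = ps + a by rw [ha]; abel, show ι g rs = rs + b by rw [hb]; abel, ea, eb] at this
    simp only [polar_add_left, polar_add_right, polar_smul_left, polar_smul_right, h1, h2, h3, h4,
      polar_comm Q r rs, polar_comm Q r p, hl.2.2.2, smul_eq_mul] at this
    linear_combination this
  refine ⟨β, fun x => ?_⟩
  rw [eq_neg_of_add_eq_zero_right hγ] at eb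
  show σ x = _
  rw [dec x, ea, eb]
  module

theorem mem_grp {p r : V} (hl : Line Q p r) {g : G} : g ∈ grp ι Q p r ↔ ∃ c, Sv ι Q p r c g := by
  refine ⟨fun hg => ?_, fun ⟨c, hc⟩ => Subgroup.subset_closure fun v a b => ?_⟩
  · induction hg using Subgroup.closure_induction with
    | mem g hg => exact sv_of_fix S hl hg
    | one => exact ⟨0, sv_zero p r⟩
    | mul a b _ _ ha hb => exact ⟨_, ha.choose_spec.mul hl hb.choose_spec⟩
    | inv a _ ha => exact ⟨_, ha.choose_spec.inv hl⟩
  · rw [hc v, a, b]; simp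

theorem conjBy_grp (g : G) (p r : V) : conjBy (grp ι Q p r) g = grp ι Q (ι g p) (ι g r) := by
  rw [conjBy, grp, MonoidHom.map_closure]
  refine congrArg Subgroup.closure (Set.ext fun h => ⟨?_, ?_⟩)
  · rintro ⟨k, hk, rfl⟩ v e1 e2
    obtain ⟨w, rfl⟩ := (ι g).surjective v
    rw [polar_map S] at e1 e2
    simp [hk w e1 e2]
  · intro hh
    refine ⟨g⁻¹ * h * g, fun v e1 e2 => ?_, by simp [mul_assoc]⟩
    have := hh (ι g v) (by rwa [polar_map S]) (by rwa [polar_map S])
    rw [map_mul, map_mul, map_inv, LinearEquiv.mul_apply, LinearEquiv.mul_apply, this]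
    exact (ι g).symm_apply_apply v

theorem line_map (g : G) {p r : V} (hl : Line Q p r) : Line Q (ι g p) (ι g r) := by
  refine ⟨LinearIndependent.pair_iff.2 fun s t e => hl.li ((ι g).injective ?_), by rw [S.iso]; exact hl.2.1,
    by rw [S.iso]; exact hl.2.2.1, by rw [polar_map S]; exact hl.2.2.2⟩
  rw [map_add, map_smul, map_smul, e, map_zero]

theorem exists_coeff {p r : V} (hl : Line Q p r) {g : G} (hg : g ∈ grp ι Q p r) (hg1 : g ≠ 1) :
    ∃ c, c ≠ 0 ∧ Sv ι Q p r c g := by
  obtain ⟨c, hc⟩ := (mem_grp S hl).1 hg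
  exact ⟨c, fun h => hg1 (hc.unique S (h ▸ sv_zero p r)), hc⟩

theorem exists_ne_one {p r : V} (hl : Line Q p r) : ∃ g ∈ grp ι Q p r, g ≠ 1 := by
  obtain ⟨g, hg⟩ := exists_sv S hl 1
  refine ⟨g, (mem_grp S hl).2 ⟨1, hg⟩, fun e => ?_⟩
  obtain ⟨ps, h1, h2⟩ := exists_dual S.nondeg hl
  have := hg ps
  rw [e, map_one, h1, h2] at this
  exact hl.snd_ne (by simpa using this.symm)

theorem comm_perp {p r p' r' : V} (h : Line Q p r) (h' : Line Q p' r') (e1 : polar Q p p' = 0)
    (e2 : polar Q p r' = 0) (e3 : polar Q r p' = 0) (e4 : polar Q r r' = 0) :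
    ⁅grp ι Q p r, grp ι Q p' r'⁆ = ⊥ := by
  refine bot_of_commute fun a ha b hb => S.inj (LinearEquiv.ext fun x => ?_)
  obtain ⟨c, hc⟩ := (mem_grp S h).1 ha
  obtain ⟨d, hd⟩ := (mem_grp S h').1 hb
  rw [map_mul, map_mul, LinearEquiv.mul_apply, LinearEquiv.mul_apply, hd, hc, hc x, hd]
  simp only [polar_add_left, polar_smul_left, polar_sub_left, e1, e2, e3, e4, polar_comm Q r' r,
    polar_comm Q p' r, polar_comm Q r' p, polar_comm Q p' p]
  module

theorem commutator_sv {p r p' r' : V} (h : Line Q p r) (h' : Line Q p' r') (e1 : polar Q p p' = 1)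
    (e2 : polar Q p r' = 0) (e3 : polar Q r p' = 0) (e4 : polar Q r r' = 0) {c d : F} {a b : G}
    (ha : Sv ι Q p r c a) (hb : Sv ι Q p' r' d b) : Sv ι Q r r' (c * d) ⁅a, b⁆ := by
  intro x
  rw [commutatorElement_def, map_mul, map_mul, map_mul, LinearEquiv.mul_apply, LinearEquiv.mul_apply,
    LinearEquiv.mul_apply, hb.inv h', ha.inv h, hb, ha]
  simp only [polar_add_left, polar_smul_left, polar_sub_left, e1, e2, e3, e4, polar_comm Q r' r,
    polar_comm Q p' r, polar_comm Q r' p, polar_comm Q p' p, h.polar_self_fst, h.polar_self_snd,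
    h'.polar_self_fst, h'.polar_self_snd, h.2.2.2, h'.2.2.2, polar_comm Q r p, polar_comm Q r' p',
    smul_eq_mul]
  module

theorem commCase {p r p' r' : V} (h : Line Q p r) (h' : Line Q p' r') (e1 : polar Q p p' = 1)
    (e2 : polar Q p r' = 0) (e3 : polar Q r p' = 0) (e4 : polar Q r r' = 0)
    (hs : Line Q r r') : RootCommutatorCase (groups ι Q) (grp ι Q p r) (grp ι Q p' r') := by
  have hL : ∀ a ∈ grp ι Q p r, a ≠ 1 →
      Subgroup.closure ((fun b : G => a * b * a⁻¹ * b⁻¹) '' (grp ι Q p' r' : Set G)) = grp ι Q r r' := by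
    intro a ha ha1
    obtain ⟨c, hc, hca⟩ := exists_coeff S h ha ha1
    refine le_antisymm ((Subgroup.closure_le _).mpr ?_) fun g hg => ?_
    · rintro _ ⟨b, hb, rfl⟩
      obtain ⟨d, hd⟩ := (mem_grp S h').1 hb
      exact (mem_grp S hs).2 ⟨c * d, commutator_sv S h h' e1 e2 e3 e4 hca hd⟩
    · obtain ⟨e, he⟩ := (mem_grp S hs).1 hg
      obtain ⟨b, hb⟩ := exists_sv S h' (c⁻¹ * e)
      refine Subgroup.subset_closure ⟨b, (mem_grp S h').2 ⟨_, hb⟩, Sv.unique S ?_ he⟩
      have := commutator_sv S h h' e1 e2 e3 e4 hca hb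
      rwa [mul_inv_cancel_left₀ hc] at this
  have hR : ∀ b ∈ grp ι Q p' r', b ≠ 1 →
      Subgroup.closure ((fun a : G => a * b * a⁻¹ * b⁻¹) '' (grp ι Q p r : Set G)) = grp ι Q r r' := by
    intro b hb hb1
    obtain ⟨d, hd, hdb⟩ := exists_coeff S h' hb hb1
    refine le_antisymm ((Subgroup.closure_le _).mpr ?_) fun g hg => ?_
    · rintro _ ⟨a, ha, rfl⟩
      obtain ⟨c, hc⟩ := (mem_grp S h).1 ha
      exact (mem_grp S hs).2 ⟨c * d, commutator_sv S h h' e1 e2 e3 e4 hc hdb⟩
    · obtain ⟨e, he⟩ := (mem_grp S hs).1 hg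
      obtain ⟨a, ha⟩ := exists_sv S h (e * d⁻¹)
      refine Subgroup.subset_closure ⟨a, (mem_grp S h).2 ⟨_, ha⟩, Sv.unique S ?_ he⟩
      have := commutator_sv S h h' e1 e2 e3 e4 ha hdb
      rwa [inv_mul_cancel_right₀ hd] at this
  have hcomm : ⁅grp ι Q p r, grp ι Q p' r'⁆ = grp ι Q r r' := by
    refine le_antisymm (Subgroup.commutator_le.mpr fun a ha b hb => ?_) ?_
    · obtain ⟨c, hc⟩ := (mem_grp S h).1 ha
      obtain ⟨d, hd⟩ := (mem_grp S h').1 hb
      exact (mem_grp S hs).2 ⟨c * d, commutator_sv S h h' e1 e2 e3 e4 hc hd⟩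
    · obtain ⟨a, ha, ha1⟩ := exists_ne_one S h
      rw [← hL a ha ha1, Subgroup.closure_le]
      rintro _ ⟨b, hb, rfl⟩
      exact Subgroup.commutator_mem_commutator ha hb
  refine ⟨⟨r, r', hs, hcomm⟩, ?_, fun a ha ha1 => (hL a ha ha1).trans hcomm.symm,
    fun b hb hb1 => (hR b hb hb1).trans hcomm.symm⟩
  rw [hcomm]
  intro c hc x hx
  have hle : grp ι Q p r ⊔ grp ι Q p' r' ≤ Subgroup.centralizer {c} := by
    refine sup_le ?_ ?_ <;> intro y hy <;> rw [Subgroup.mem_centralizer_singleton_iff]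
    · exact (commute_of_bot (comm_perp S hs h (by rw [polar_comm]; exact h.2.2.2) h.polar_self_snd
        (by rw [polar_comm]; exact e2) (by rw [polar_comm]; exact e4)) hc hy).symm
    · exact (commute_of_bot (comm_perp S hs h' e3 e4 (by rw [polar_comm]; exact h'.2.2.2)
        h'.polar_self_snd) hc hy).symm
  exact (Subgroup.mem_centralizer_singleton_iff.mp (hle hx)).symm

/-- Opposite lines in dual bases give an image of `SL(2, F)`. -/
theorem exists_hom {p r p' r' : V} (h : Line Q p r) (h' : Line Q p' r') (e1 : polar Q p p' = 1)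
    (e2 : polar Q p r' = 0) (e3 : polar Q r p' = 0) (e4 : polar Q r r' = 1) :
    ∃ f : SL(2, F) →* G, Function.Injective f ∧
      (upperUnipotentSL2 F).map f = grp ι Q p r ∧ (lowerUnipotentSL2 F).map f = grp ι Q p' r' ∧
      f.range = grp ι Q p r ⊔ grp ι Q p' r' := by
  let α : V → F := fun x => polar Q x r'
  let β : V → F := fun x => polar Q x p
  let α' : V → F := fun x => -polar Q x p'
  let β' : V → F := fun x => polar Q x r
  let T : SL(2, F) → V → V := fun g x =>
    x + ((g 0 0 - 1) * α x + g 0 1 * β x) • r + (g 1 0 * α x + (g 1 1 - 1) * β x) • p' +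
      ((g 0 0 - 1) * α' x + g 0 1 * β' x) • (-p) + (g 1 0 * α' x + (g 1 1 - 1) * β' x) • r'
  have hval : ∀ g x, α (T g x) = g 0 0 * α x + g 0 1 * β x ∧ β (T g x) = g 1 0 * α x + g 1 1 * β x ∧
      α' (T g x) = g 0 0 * α' x + g 0 1 * β' x ∧ β' (T g x) = g 1 0 * α' x + g 1 1 * β' x := by
    intro g x
    simp only [T, α, β, α', β', polar_add_left, polar_smul_left, polar_neg_left, e1, e2, e3, e4,
      polar_comm Q r' r, polar_comm Q p' r, polar_comm Q r' p, polar_comm Q p' p, h.polar_self_fst,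
      h.polar_self_snd, h'.polar_self_fst, h'.polar_self_snd, h.2.2.2, h'.2.2.2, polar_comm Q r p,
      polar_comm Q r' p', smul_eq_mul]
    refine ⟨?_, ?_, ?_, ?_⟩ <;> ring
  have hTmul : ∀ g k x, T g (T k x) = T (g * k) x := by
    intro g k x
    obtain ⟨a1, a2, a3, a4⟩ := hval k x
    conv_lhs => rw [show T g (T k x) = T k x + ((g 0 0 - 1) * α (T k x) + g 0 1 * β (T k x)) • r +
      (g 1 0 * α (T k x) + (g 1 1 - 1) * β (T k x)) • p' +
      ((g 0 0 - 1) * α' (T k x) + g 0 1 * β' (T k x)) • (-p) +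
      (g 1 0 * α' (T k x) + (g 1 1 - 1) * β' (T k x)) • r' from rfl, a1, a2, a3, a4]
    simp only [T, Matrix.SpecialLinearGroup.coe_mul, Matrix.mul_apply, Fin.sum_univ_two]
    module
  have hTone : ∀ x, T 1 x = x := fun x => by simp [T]
  have hTadd : ∀ g x y, T g (x + y) = T g x + T g y := fun g x y => by
    simp only [T, α, β, α', β', polar_add_left]; module
  have hTsmul : ∀ g (a : F) x, T g (a • x) = a • T g x := fun g a x => by
    simp only [T, α, β, α', β', polar_smul_left, smul_eq_mul]; module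
  let ρ : SL(2, F) →* (V ≃ₗ[F] V) :=
    { toFun := fun g =>
        { toFun := T g
          map_add' := hTadd g
          map_smul' := hTsmul g
          invFun := T g⁻¹
          left_inv := fun x => by rw [hTmul, inv_mul_cancel, hTone]
          right_inv := fun x => by rw [hTmul, mul_inv_cancel, hTone] }
      map_one' := LinearEquiv.ext hTone
      map_mul' := fun g k => LinearEquiv.ext fun x => (hTmul g k x).symm }
  have hup : ∀ t x, ρ (SL2.up t) x = x + t • (polar Q x p • r - polar Q x r • p) := fun t x => by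
    show T (SL2.up t) x = _
    simp [T, SL2.coe_up, α, β, α', β']
    module
  have hlow : ∀ t x, ρ (SL2.low t) x = x + (-t) • (polar Q x p' • r' - polar Q x r' • p') := fun t x => by
    show T (SL2.low t) x = _
    simp [T, SL2.coe_low, α, β, α', β']
    module
  have hρinj : Function.Injective ρ := by
    intro g k hgk
    have c : ∀ x, α (T g x) = α (T k x) ∧ β (T g x) = β (T k x) := fun x =>
      ⟨congrArg α (congrArg (fun f : V ≃ₗ[F] V => f x) hgk),
        congrArg β (congrArg (fun f : V ≃ₗ[F] V => f x) hgk)⟩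
    have hr : α r = 1 ∧ β r = 0 := ⟨e4, by show polar Q r p = 0; rw [polar_comm]; exact h.2.2.2⟩
    have hp : α p' = 0 ∧ β p' = 1 := ⟨h'.2.2.2, by show polar Q p' p = 1; rw [polar_comm]; exact e1⟩
    have a := c r
    have b := c p'
    simp only [(hval _ _).1, (hval _ _).2.1, hr.1, hr.2, hp.1, hp.2, mul_one, mul_zero, add_zero,
      zero_add] at a b
    exact SL2.ext2 a.1 b.1 a.2 b.2
  have hrange : ∀ g : SL(2, F), ρ g ∈ ι.range := by
    intro g
    have hle : lowerUnipotentSL2 F ⊔ upperUnipotentSL2 F ≤ ι.range.comap ρ := by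
      refine sup_le (fun k hk => ?_) fun k hk => ?_
      · obtain ⟨t, rfl⟩ := SL2.mem_lower.mp hk
        obtain ⟨k, hk⟩ := exists_sv S h' (-t)
        exact ⟨k, LinearEquiv.ext fun x => (hk x).trans (hlow t x).symm⟩
      · obtain ⟨t, rfl⟩ := SL2.mem_upper.mp hk
        obtain ⟨k, hk⟩ := exists_sv S h t
        exact ⟨k, LinearEquiv.ext fun x => (hk x).trans (hup t x).symm⟩
    exact hle (by rw [SL2.sup_eq_top]; trivial)
  choose f hf using hrange
  let fh : SL(2, F) →* G := MonoidHom.mk' f fun g k => S.inj (by rw [map_mul, hf, hf, hf, map_mul])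
  have hfh : ∀ g, ι (fh g) = ρ g := hf
  have hU : ∀ t, Sv ι Q p r t (fh (SL2.up t)) := fun t x => by rw [hfh, hup]
  have hLw : ∀ t, Sv ι Q p' r' (-t) (fh (SL2.low t)) := fun t x => by rw [hfh, hlow]
  have hmU : (upperUnipotentSL2 F).map fh = grp ι Q p r := by
    ext g
    rw [Subgroup.mem_map, mem_grp S h]
    constructor
    · rintro ⟨k, hk, rfl⟩
      obtain ⟨t, rfl⟩ := SL2.mem_upper.mp hk
      exact ⟨t, hU t⟩
    · rintro ⟨c, hc⟩
      exact ⟨SL2.up c, SL2.mem_upper.mpr ⟨c, rfl⟩, (hU c).unique S hc⟩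
  have hmL : (lowerUnipotentSL2 F).map fh = grp ι Q p' r' := by
    ext g
    rw [Subgroup.mem_map, mem_grp S h']
    constructor
    · rintro ⟨k, hk, rfl⟩
      obtain ⟨t, rfl⟩ := SL2.mem_lower.mp hk
      exact ⟨_, hLw t⟩
    · rintro ⟨c, hc⟩
      refine ⟨SL2.low (-c), SL2.mem_lower.mpr ⟨_, rfl⟩, Sv.unique S ?_ hc⟩
      have := hLw (-c)
      rwa [neg_neg] at this
  refine ⟨fh, fun g k hgk => hρinj ?_, hmU, hmL, ?_⟩
  · rw [← hfh, ← hfh, hgk]
  · rw [← hmU, ← hmL, ← Subgroup.map_sup, sup_comm, SL2.sup_eq_top, MonoidHom.range_eq_map]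

omit S in
theorem rankOne_map {X : Type*} [Group X] {A B : Subgroup X} (hAB : IsRankOnePair A B) {f : X →* G}
    (hf : Function.Injective f) : IsRankOnePair (A.map f) (B.map f) := by
  have key : ∀ (C : Subgroup X) (x : X), conjBy (C.map f) (f x) = (conjBy C x).map f := by
    intro C x
    rw [conjBy, conjBy, Subgroup.map_map, Subgroup.map_map]
    congr 1
    ext y
    simp
  have := hAB.nilpotent_left
  have := hAB.nilpotent_right
  have cond : ∀ {P R : Subgroup X}, RankOneCondition P R → RankOneCondition (P.map f) (R.map f) := by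
    rintro P R hc _ ⟨a, ha, rfl⟩ ha1
    obtain ⟨b, hb, hb1, he⟩ := hc a ha (fun h' => ha1 (by rw [h', map_one]))
    refine ⟨f b, ⟨b, hb, rfl⟩, fun h' => hb1 (hf (h'.trans f.map_one.symm)), ?_⟩
    rw [← map_inv, ← map_inv, key, key, he]
  exact ⟨fun he => hAB.ne (Subgroup.map_injective hf he),
    Group.nilpotent_of_mulEquiv (A.equivMapOfInjective f hf),
    Group.nilpotent_of_mulEquiv (B.equivMapOfInjective f hf), cond hAB.cond_left, cond hAB.cond_right⟩

/-- A pair of dual bases of two opposite lines. -/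
theorem opp_pair {p r p' r' : V} (h : Line Q p r) (h' : Line Q p' r') (ho : Opp Q p r p' r') :
    IsRankOnePair (grp ι Q p r) (grp ι Q p' r') ∧ IsPSL2PairOver F (grp ι Q p r) (grp ι Q p' r') := by
  set a := polar Q p p' with ha
  set b := polar Q p r' with hb
  set c := polar Q r p' with hc
  set d := polar Q r r' with hd
  set D := a * d - b * c with hD
  have hD0 : D ≠ 0 := ho
  have hdet : d / D * (a / D) - -c / D * (-b / D) ≠ 0 := by
    rw [show d / D * (a / D) - -c / D * (-b / D) = 1 / D by field_simp; rw [hD]; ring]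
    exact one_div_ne_zero hD0
  have h'' := h'.change hdet
  have g : polar Q p ((d / D) • p' + (-c / D) • r') = 1 ∧ polar Q p ((-b / D) • p' + (a / D) • r') = 0 ∧
      polar Q r ((d / D) • p' + (-c / D) • r') = 0 ∧ polar Q r ((-b / D) • p' + (a / D) • r') = 1 := by
    simp only [polar_add_right, polar_smul_right, ← ha, ← hb, ← hc, ← hd, smul_eq_mul]
    refine ⟨?_, ?_, ?_, ?_⟩ <;> field_simp <;> simp only [hD] <;> ring
  obtain ⟨f, hf, hU, hL, hR⟩ := exists_hom S h h'' g.1 g.2.1 g.2.2.1 g.2.2.2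
  rw [grp_change p' r' hdet] at hL hR
  refine ⟨?_, f, hR, by rw [(MonoidHom.ker_eq_bot_iff f).mpr hf]; exact bot_le, hU, hL⟩
  rw [← hU, ← hL]
  exact RankOnePair_symm (rankOne_map SL2.isRankOnePair hf)

theorem pair_normalised {p r p' r' : V} (h : Line Q p r) (h' : Line Q p' r')
    (ha : polar Q p p' ≠ 0) (hdet : polar Q p p' * polar Q r r' - polar Q p r' * polar Q r p' = 0) :
    ⁅grp ι Q p r, grp ι Q p' r'⁆ = ⊥ ∨ RootCommutatorCase (groups ι Q) (grp ι Q p r) (grp ι Q p' r') := by
  set a := polar Q p p' with hea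
  set b := polar Q p r' with heb
  set c := polar Q r p' with hec
  set d := polar Q r r' with hed
  have k1 : (1 : F) * a - 0 * (-c) ≠ 0 := by simpa using ha
  have k2 : a⁻¹ * a - 0 * (-b) ≠ 0 := by simp [ha]
  have H := h.change k1
  have H' := h'.change k2
  rw [← grp_change p r k1, ← grp_change p' r' k2]
  simp only [one_smul, zero_smul, add_zero] at H H' ⊢
  set R := -c • p + a • r with hR
  set R' := -b • p' + a • r' with hR'
  have f1 : polar Q p (a⁻¹ • p') = 1 := by
    rw [polar_smul_right, ← hea, smul_eq_mul, inv_mul_cancel₀ ha]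
  have f2 : polar Q p R' = 0 := by
    simp only [hR', polar_add_right, polar_smul_right, ← hea, ← heb, smul_eq_mul]; ring
  have f3 : polar Q R (a⁻¹ • p') = 0 := by
    simp only [hR, polar_add_left, polar_smul_right, polar_smul_left, ← hea, ← hec, smul_eq_mul]; ring
  have f4 : polar Q R R' = 0 := by
    simp only [hR, hR', polar_add_left, polar_add_right, polar_smul_right, polar_smul_left, ← hea, ← heb,
      ← hec, ← hed, smul_eq_mul]
    linear_combination a * hdet
  by_cases hs : LinearIndependent F ![R, R']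
  · exact .inr (commCase S H H' f1 f2 f3 f4 ⟨hs, H.2.2.1, H'.2.2.1, f4⟩)
  · refine .inl (bot_of_commute fun x hx y hy => S.inj (LinearEquiv.ext fun v => ?_))
    obtain ⟨k, hk⟩ : ∃ k : F, R' = k • R := by
      rw [LinearIndependent.pair_iff' H.snd_ne] at hs
      push Not at hs
      exact ⟨_, hs.choose_spec.symm⟩
    obtain ⟨s, hsx⟩ := (mem_grp S H).1 hx
    obtain ⟨t, hty⟩ := (mem_grp S H').1 hy
    rw [map_mul, map_mul, LinearEquiv.mul_apply, LinearEquiv.mul_apply, hty, hsx, hsx v, hty]
    have g1 : polar Q (a⁻¹ • p') p = 1 := by rw [polar_comm]; exact f1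
    have g3 : polar Q (a⁻¹ • p') R = 0 := by rw [polar_comm]; exact f3
    generalize a⁻¹ • p' = P at *
    simp only [hk, polar_add_left, polar_smul_left, polar_sub_left, polar_smul_right, g1, g3, f3, f1,
      polar_comm Q R p, H.2.2.2, H.polar_self_fst, H.polar_self_snd, H'.polar_self_fst, smul_eq_mul]
    module

theorem pair {p r p' r' : V} (h : Line Q p r) (h' : Line Q p' r') :
    ⁅grp ι Q p r, grp ι Q p' r'⁆ = ⊥ ∨
      (IsRankOnePair (grp ι Q p r) (grp ι Q p' r') ∧ IsPSL2PairOver F (grp ι Q p r) (grp ι Q p' r')) ∨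
      RootCommutatorCase (groups ι Q) (grp ι Q p r) (grp ι Q p' r') := by
  by_cases hdet : Opp Q p r p' r'
  · exact .inr (.inl (opp_pair S h h' hdet))
  rw [Opp, not_not] at hdet
  have conv : ∀ {A B : Subgroup G}, (⁅A, B⁆ = ⊥ ∨ RootCommutatorCase (groups ι Q) A B) →
      ⁅A, B⁆ = ⊥ ∨ (IsRankOnePair A B ∧ IsPSL2PairOver F A B) ∨ RootCommutatorCase (groups ι Q) A B :=
    fun x => x.imp id .inr
  by_cases h1 : polar Q p p' = 0
  · by_cases h2 : polar Q p r' = 0
    · by_cases h3 : polar Q r p' = 0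
      · by_cases h4 : polar Q r r' = 0
        · exact .inl (comm_perp S h h' h1 h2 h3 h4)
        · rw [grp_swap p r, grp_swap p' r']
          exact conv (pair_normalised S h.swap h'.swap h4 (by linear_combination hdet))
      · rw [grp_swap p r]
        exact conv (pair_normalised S h.swap h' h3 (by linear_combination -hdet))
    · rw [grp_swap p' r']
      exact conv (pair_normalised S h h'.swap h2 (by linear_combination -hdet))
  · exact conv (pair_normalised S h h' h1 hdet)

theorem adj {p r p' r' : V} (h : Line Q p r) (h' : Line Q p' r') (ho : Opp Q p r p' r') :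
    FAdj (groups ι Q) (grp ι Q p r) (grp ι Q p' r') ∧ FAdj (groups ι Q) (grp ι Q p' r') (grp ι Q p r) :=
  have hr := (opp_pair S h h' ho).1
  ⟨⟨⟨p, r, h, rfl⟩, ⟨p', r', h', rfl⟩, hr⟩, ⟨⟨p', r', h', rfl⟩, ⟨p, r, h, rfl⟩, RankOnePair_symm hr⟩⟩

theorem reach_common {p r s : V} (hr : Line Q p r) (hs : Line Q p s) :
    Relation.ReflTransGen (FAdj (groups ι Q)) (grp ι Q p r) (grp ι Q p s) := by
  obtain ⟨u, v, hl, ho, ho'⟩ := exists_opp_common S.nondeg S.dim hr hs
  exact .head (adj S hr hl ho).1 (.single (adj S hs hl ho').2)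

theorem connected : IsConnectedFamily (FAdj (groups ι Q)) (groups ι Q) := by
  rintro _ ⟨p, r, hl, rfl⟩ _ ⟨p', r', hm, rfl⟩
  obtain ⟨p1, q1, h1, e1, ep⟩ : ∃ p1 q1, Line Q p1 q1 ∧ grp ι Q p1 q1 = grp ι Q p r ∧ polar Q p1 p' = 0 := by
    by_cases hr : polar Q r p' = 0
    · exact ⟨r, p, hl.swap, grp_swap r p, hr⟩
    · have k : (1 : F) * 1 - (-(polar Q p p' / polar Q r p')) * 0 ≠ 0 := by simp
      refine ⟨_, _, hl.change k, grp_change p r k, ?_⟩
      simp only [polar_add_left, polar_smul_left, smul_eq_mul, neg_mul, div_mul_cancel₀ _ hr]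
      ring
  rw [← e1]
  by_cases hli : LinearIndependent F ![p1, p']
  · have hn : Line Q p1 p' := ⟨hli, h1.2.1, hm.2.1, ep⟩
    refine (reach_common S h1 hn).trans ?_
    rw [grp_swap p1 p']
    exact reach_common S hn.swap hm
  · rw [LinearIndependent.pair_iff' h1.fst_ne] at hli
    push Not at hli
    obtain ⟨k, hk⟩ := hli
    have hk0 : k ≠ 0 := fun e => hm.fst_ne (by rw [← hk, e, zero_smul])
    have kk : k⁻¹ * 1 - (0 : F) * 0 ≠ 0 := by simp [hk0]
    have := hm.change kk
    rw [← grp_change p' r' kk]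
    simp only [zero_smul, add_zero, zero_add, one_smul, ← hk, inv_smul_smul₀ hk0] at this ⊢
    exact reach_common S h1 this

/-- The root set axioms in the group the members generate, and connectedness. -/
theorem main : IsKRootSubgroupSet F
    ((fun A : Subgroup G => A.subgroupOf (⨆ B ∈ groups ι Q, B)) '' groups ι Q) ∧
    IsConnectedFamily (FAdj (groups ι Q)) (groups ι Q) := by
  refine ⟨?_, connected S⟩
  have hcomm : ∀ A ∈ groups ι Q, IsMulCommutative A := by
    rintro _ ⟨p, r, hl, rfl⟩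
    refine ⟨⟨fun a b => Subtype.ext ?_⟩⟩
    exact commute_of_bot (comm_perp S hl hl hl.polar_self_fst hl.2.2.2
      (by rw [polar_comm]; exact hl.2.2.2) hl.polar_self_snd) a.2 b.2
  have hset := isRootSubgroupSet_subgroupOf (groups ι Q) hcomm
    (by
      rintro _ ⟨p, r, hl, rfl⟩ e
      obtain ⟨g, hg, hg1⟩ := exists_ne_one S hl
      exact hg1 (Subgroup.mem_bot.1 (e ▸ hg)))
    (by
      rintro _ ⟨p, r, hl, rfl⟩ g -
      exact ⟨_, _, line_map S g hl, conjBy_grp S g p r⟩)
    (by
      rintro _ ⟨p, r, h, rfl⟩ _ ⟨p', r', h', rfl⟩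
      exact (pair S h h').imp id (Or.imp And.left id))
  refine ⟨hset, ?_⟩
  rintro _ ⟨A, hA, rfl⟩ _ ⟨B, hB, rfl⟩ hAB
  set K := ⨆ B ∈ groups ι Q, B
  have hle : ∀ A ∈ groups ι Q, A ≤ K := fun A hA =>
    le_iSup₂ (f := fun (B : Subgroup G) (_ : B ∈ groups ι Q) => B) A hA
  obtain ⟨p, r, h, rfl⟩ := hA
  obtain ⟨p', r', h', rfl⟩ := hB
  have hAK := hle _ ⟨p, r, h, rfl⟩
  have hBK := hle _ ⟨p', r', h', rfl⟩
  rcases pair S h h' with hb | ⟨-, φ, hR, hker, hU, hL⟩ | hc
  · refine absurd ?_ (RankOne.commutator_ne_bot hAB)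
    rw [commutator_subgroupOf hAK hBK, hb, Subgroup.bot_subgroupOf]
  · have hφ : ∀ g, φ g ∈ K := fun g => sup_le hAK hBK (hR ▸ ⟨g, rfl⟩)
    have hmap : ∀ U : Subgroup SL(2, F), (U.map (φ.codRestrict K hφ)).map K.subtype = U.map φ := fun U => by
      rw [Subgroup.map_map]; rfl
    refine ⟨φ.codRestrict K hφ, ?_, ?_, ?_, ?_⟩
    · apply Subgroup.map_injective K.subtype_injective
      rw [MonoidHom.range_eq_map, hmap, ← MonoidHom.range_eq_map, hR, Subgroup.map_sup,
        Subgroup.map_subgroupOf_eq_of_le hAK, Subgroup.map_subgroupOf_eq_of_le hBK]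
    · intro g hg
      exact hker (MonoidHom.mem_ker.2 (congrArg Subtype.val (MonoidHom.mem_ker.1 hg)))
    · apply Subgroup.map_injective K.subtype_injective
      rw [hmap, hU, Subgroup.map_subgroupOf_eq_of_le hAK]
    · apply Subgroup.map_injective K.subtype_injective
      rw [hmap, hL, Subgroup.map_subgroupOf_eq_of_le hBK]
  · exact absurd (commCase_subgroupOf (S' := (fun A : Subgroup G => A.subgroupOf K) '' groups ι Q) hAK hBK
      (fun C hC _ => ⟨C, hC, rfl⟩) hc)
      (not_commCase_of_rankOne hAB)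

end Cfsg.Agent.RootSub.Siegel
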