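import Cfsg.Agent.RootSub.Siegel.Groups
import Cfsg.Prelude.Def_Classical
import Cfsg.Agent.Classical.QuadMat

/-!
# The Siegel transvection groups of the hyperbolic form on coordinates
-/

set_option autoImplicit false

namespace Cfsg.Agent.RootSub.Siegel

open QuadraticMap Matrix

variable {F : Type*} [Field F] {n : ℕ}

/-- The hyperbolic form as a quadratic form. -/
noncomputable def plusQ (n : ℕ) (F : Type*) [Field F] : QuadraticForm F (Fin n ⊕ Fin n → F) :=
  ∑ i : Fin n, linMulLin (LinearMap.proj (Sum.inl i)) (LinearMap.proj (Sum.inr i))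

theorem coe_plusQ : (⇑(plusQ n F) : (Fin n ⊕ Fin n → F) → F) = Cfsg.quadFormPlus n F := by
  funext v
  simp [plusQ, Cfsg.quadFormPlus, QuadraticMap.sum_apply]

theorem plusQ_nondeg : (polarBilin (plusQ n F)).Nondegenerate := by
  classical
  have key : ∀ x : Fin n ⊕ Fin n → F, (∀ y, polar (plusQ n F) x y = 0) → x = 0 := by
    intro x hx
    funext s
    rcases s with i | i
    · have := hx (Pi.single (Sum.inr i) 1)
      simpa [polar, coe_plusQ, Cfsg.quadFormPlus, Pi.single_apply, add_mul, mul_add, Finset.sum_add_distrib] using this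
    · have := hx (Pi.single (Sum.inl i) 1)
      simpa [polar, coe_plusQ, Cfsg.quadFormPlus, Pi.single_apply, add_mul, mul_add, Finset.sum_add_distrib] using this
  exact ⟨fun x hx => key x hx, fun y hy => key y fun x => by rw [polar_comm]; exact hy x⟩

/-- The isometry group acting on column vectors. -/
noncomputable def plusRep (n : ℕ) (F : Type*) [Field F] :
    Cfsg.isometryGroup F (Cfsg.quadFormPlus n F) →* ((Fin n ⊕ Fin n → F) ≃ₗ[F] (Fin n ⊕ Fin n → F)) :=
  MonoidHom.mk' (fun g => Classical.Quad.glLin g.1) fun g g' => LinearEquiv.ext fun v => by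
    simp [LinearEquiv.mul_apply, Classical.Quad.glLin_apply, Matrix.mulVec_mulVec]

theorem plusSetup (hn : 3 ≤ n) : Setup (plusRep n F) (plusQ n F) where
  inj A B h := by
    refine Subtype.ext (Units.ext (Matrix.ext_of_mulVec_single fun i => ?_))
    exact congrArg (fun g : (Fin n ⊕ Fin n → F) ≃ₗ[F] _ => g (Pi.single i 1)) h
  iso g x := by
    rw [coe_plusQ]
    exact Classical.Quad.mem_isometryGroup_iff.1 g.2 x
  full f hf := by
    have h1 : LinearMap.toMatrix' f.toLinearMap * LinearMap.toMatrix' f.symm.toLinearMap = 1 := by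
      rw [← LinearMap.toMatrix'_comp, LinearEquiv.comp_symm, LinearMap.toMatrix'_id]
    have h2 : LinearMap.toMatrix' f.symm.toLinearMap * LinearMap.toMatrix' f.toLinearMap = 1 := by
      rw [← LinearMap.toMatrix'_comp, LinearEquiv.symm_comp, LinearMap.toMatrix'_id]
    refine ⟨⟨⟨_, _, h1, h2⟩, Classical.Quad.mem_isometryGroup_iff.2 fun x => ?_⟩,
      LinearEquiv.ext fun v => LinearMap.toMatrix'_mulVec f.toLinearMap v⟩
    rw [LinearMap.toMatrix'_mulVec]
    have := hf x
    rwa [coe_plusQ] at this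
  nondeg := plusQ_nondeg
  dim := by
    rw [Module.finrank_fintype_fun_eq_card, Fintype.card_sum, Fintype.card_fin]
    omega

theorem groups_eq : groups (plusRep n F) (plusQ n F) =
    {A : Subgroup ↥(Cfsg.isometryGroup F (Cfsg.quadFormPlus n F)) | ∃ p r : Fin n ⊕ Fin n → F,
      LinearIndependent F ![p, r] ∧
          Cfsg.quadFormPlus n F p = 0 ∧ Cfsg.quadFormPlus n F r = 0 ∧
          Cfsg.quadFormPlus n F (p + r) = 0 ∧
          A = Subgroup.closure {σ : ↥(Cfsg.isometryGroup F (Cfsg.quadFormPlus n F)) | ∀ v : Fin n ⊕ Fin n → F,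
            Cfsg.quadFormPlus n F (v + p) - Cfsg.quadFormPlus n F v - Cfsg.quadFormPlus n F p = 0 →
            Cfsg.quadFormPlus n F (v + r) - Cfsg.quadFormPlus n F v - Cfsg.quadFormPlus n F r = 0 →
              ((σ : Matrix.GeneralLinearGroup (Fin n ⊕ Fin n) F) : Matrix (Fin n ⊕ Fin n) (Fin n ⊕ Fin n) F) *ᵥ v = v}} := by
  ext A
  simp only [groups, Line, grp, polar, coe_plusQ, Set.mem_ofPred_eq]
  constructor
  · rintro ⟨p, r, ⟨h1, h2, h3, h4⟩, rfl⟩
    exact ⟨p, r, h1, h2, h3, by linear_combination h4 + h2 + h3, rfl⟩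
  · rintro ⟨p, r, h1, h2, h3, h4, rfl⟩
    exact ⟨p, r, ⟨h1, h2, h3, by linear_combination h4 - h2 - h3⟩, rfl⟩

end Cfsg.Agent.RootSub.Siegel
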